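import Mathlib

/-! Syntomic lifting (helper8): the projector matrix attached to a projective conormal module. -/

set_option autoImplicit false
set_option linter.unusedSectionVars false
set_option linter.unusedVariables false
universe u

namespace Groth.Agent.H8.SyntLift

section MatB

variable {Pb : Type u} [CommRing Pb] (Jb : Ideal Pb) {m : ℕ} (fb : Fin m → Pb)

theorem exists_matrix_of_projective (hfb : Ideal.span (Set.range fb) = Jb)
    [Module.Projective (Pb ⧸ Jb) Jb.Cotangent] :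
    ∃ Mb : Matrix (Fin m) (Fin m) (Pb ⧸ Jb),
      (∀ v : Fin m → Pb, (∑ k, v k * fb k) ∈ Jb ^ 2 →
        ∀ i', ∑ k, Ideal.Quotient.mk Jb (v k) * Mb k i' = 0) ∧
      (∀ Mt : Matrix (Fin m) (Fin m) Pb, (∀ i k, Ideal.Quotient.mk Jb (Mt i k) = Mb i k) →
        ∀ i, fb i - ∑ k, Mt i k * fb k ∈ Jb ^ 2) := by
  classical
  have fmem : ∀ k, fb k ∈ Jb := fun k => hfb ▸ Ideal.subset_span ⟨k, rfl⟩
  let tc : Fin m → Jb.Cotangent := fun k => Jb.toCotangent ⟨fb k, fmem k⟩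
  have key : ∀ (a : Fin m → Pb) (h : ∑ k, a k * fb k ∈ Jb),
      Jb.toCotangent ⟨∑ k, a k * fb k, h⟩ = ∑ k, Ideal.Quotient.mk Jb (a k) • tc k := by
    intro a h
    have e : (⟨∑ k, a k * fb k, h⟩ : Jb) = ∑ k, a k • (⟨fb k, fmem k⟩ : Jb) := by
      apply Subtype.ext
      simp
    rw [e, map_sum]
    refine Finset.sum_congr rfl fun k _ => ?_
    rw [map_smul]
    exact (algebraMap_smul (Pb ⧸ Jb) (a k) (tc k)).symm
  let π : (Fin m → Pb ⧸ Jb) →ₗ[Pb ⧸ Jb] Jb.Cotangent := Fintype.linearCombination (Pb ⧸ Jb) tc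
  have hπ : Function.Surjective π := by
    intro y
    obtain ⟨x, rfl⟩ := Ideal.toCotangent_surjective Jb y
    have hx : (x : Pb) ∈ Ideal.span (Set.range fb) := hfb ▸ x.2
    obtain ⟨a, ha⟩ := (Ideal.mem_span_range_iff_exists_fun).mp hx
    refine ⟨fun k => Ideal.Quotient.mk Jb (a k), ?_⟩
    have hmem : ∑ k, a k * fb k ∈ Jb := ha ▸ x.2
    show Fintype.linearCombination (Pb ⧸ Jb) tc _ = _
    rw [Fintype.linearCombination_apply, ← key a hmem]
    congr 1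
    exact Subtype.ext ha
  obtain ⟨σ, hσ⟩ := Module.projective_lifting_property π LinearMap.id hπ
  have hσ' : ∀ y, π (σ y) = y := fun y => LinearMap.congr_fun hσ y
  refine ⟨Matrix.of fun k i' => σ (tc k) i', ?_, ?_⟩
  · intro v hv i'
    have hmem : ∑ k, v k * fb k ∈ Jb := Ideal.pow_le_self two_ne_zero hv
    have h0 : ∑ k, Ideal.Quotient.mk Jb (v k) • tc k = 0 := by
      rw [← key v hmem, Ideal.toCotangent_eq_zero]
      exact hv
    have h1 := congrArg σ h0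
    rw [map_sum, map_zero] at h1
    have h2 := congrFun h1 i'
    simp only [map_smul, Finset.sum_apply, Pi.smul_apply, smul_eq_mul, Pi.zero_apply] at h2
    exact h2
  · intro Mt hMt i
    have hmem1 : ∑ k, Mt i k * fb k ∈ Jb :=
      Ideal.sum_mem _ fun k _ => Ideal.mul_mem_left _ _ (fmem k)
    have hmem : fb i - ∑ k, Mt i k * fb k ∈ Jb := Jb.sub_mem (fmem i) hmem1
    rw [← Ideal.toCotangent_eq_zero Jb ⟨_, hmem⟩]
    have e : (⟨fb i - ∑ k, Mt i k * fb k, hmem⟩ : Jb) =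
        ⟨fb i, fmem i⟩ - ⟨∑ k, Mt i k * fb k, hmem1⟩ := rfl
    rw [e, map_sub, key _ hmem1, sub_eq_zero]
    have h3 := hσ' (tc i)
    calc Jb.toCotangent ⟨fb i, fmem i⟩ = π (σ (tc i)) := h3.symm
      _ = ∑ k, σ (tc i) k • tc k := Fintype.linearCombination_apply _ _ _
      _ = ∑ k, Ideal.Quotient.mk Jb (Mt i k) • tc k :=
          Finset.sum_congr rfl fun k _ => by rw [hMt i k]; rfl

end MatB

section MatP

variable {P : Type u} [CommRing P] (KP : Ideal P) {m : ℕ} (f : Fin m → P)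

theorem sq_le_of_eq_sup (𝔞 J : Ideal P) (h𝔞 : 𝔞 = J ⊔ KP) : 𝔞 ^ 2 ≤ J ^ 2 ⊔ KP := by
  rw [pow_two, Ideal.mul_le]
  intro a ha b hb
  rw [h𝔞] at ha hb
  obtain ⟨j, hj, k, hk, rfl⟩ := Submodule.mem_sup.mp ha
  obtain ⟨j', hj', k', hk', rfl⟩ := Submodule.mem_sup.mp hb
  have : (j + k) * (j' + k') = j * j' + (k * (j' + k') + k' * j) := by ring
  rw [this]
  refine add_mem (Ideal.mem_sup_left ?_) (Ideal.mem_sup_right ?_)
  · rw [pow_two]; exact Ideal.mul_mem_mul hj hj'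
  · exact add_mem (Ideal.mul_mem_right _ _ hk) (Ideal.mul_mem_right _ _ hk')

/-- the matrix at the level of `P`. -/
theorem exists_matrix_lift (𝔞 : Ideal P) (h𝔞 : 𝔞 = Ideal.span (Set.range f) ⊔ KP)
    [Module.Projective ((P ⧸ KP) ⧸ 𝔞.map (Ideal.Quotient.mk KP))
      (𝔞.map (Ideal.Quotient.mk KP)).Cotangent] :
    ∃ M₀ : Matrix (Fin m) (Fin m) P,
      (∀ v : Fin m → P, (∑ k, v k * f k) ∈ Ideal.span (Set.range f) ^ 2 ⊔ KP →
        ∀ i', ∑ k, v k * M₀ k i' ∈ 𝔞) ∧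
      (∀ i, f i - ∑ k, M₀ i k * f k ∈ Ideal.span (Set.range f) ^ 2 ⊔ KP) := by
  classical
  set J : Ideal P := Ideal.span (Set.range f) with hJ
  set μ : P →+* P ⧸ KP := Ideal.Quotient.mk KP with hμ
  have hμs : Function.Surjective μ := Ideal.Quotient.mk_surjective
  set Jb : Ideal (P ⧸ KP) := 𝔞.map μ with hJb
  have hKP𝔞 : KP ≤ 𝔞 := h𝔞 ▸ le_sup_right
  have hJ𝔞 : J ≤ 𝔞 := h𝔞 ▸ le_sup_left
  have hcomap : Jb.comap μ = 𝔞 := by
    rw [hJb, Ideal.comap_map_of_surjective μ hμs, ← RingHom.ker_eq_comap_bot, hμ, Ideal.mk_ker]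
    exact sup_eq_left.mpr hKP𝔞
  have hfb : Ideal.span (Set.range fun k => μ (f k)) = Jb := by
    rw [hJb, h𝔞, Ideal.map_sup, hJ, Ideal.map_span, hμ, Ideal.map_quotient_self, sup_bot_eq,
      ← Set.range_comp]
    rfl
  obtain ⟨Mb, hR, hZ⟩ := exists_matrix_of_projective Jb (fun k => μ (f k)) hfb
  have hlift : ∀ i k, ∃ x : P, Ideal.Quotient.mk Jb (μ x) = Mb i k := by
    intro i k
    obtain ⟨y, hy⟩ := Ideal.Quotient.mk_surjective (Mb i k)
    obtain ⟨x, rfl⟩ := hμs y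
    exact ⟨x, hy⟩
  choose M₀ hM₀ using hlift
  have hmapJ2 : (J ^ 2 ⊔ KP).map μ ≤ Jb ^ 2 := by
    rw [Ideal.map_sup, hμ, Ideal.map_quotient_self, sup_bot_eq, Ideal.map_pow]
    exact Ideal.pow_right_mono (Ideal.map_mono hJ𝔞) 2
  refine ⟨Matrix.of M₀, ?_, ?_⟩
  · intro v hv i'
    have h1 : ∑ k, μ (v k) * μ (f k) ∈ Jb ^ 2 := by
      have := hmapJ2 (Ideal.mem_map_of_mem μ hv)
      rwa [map_sum, Finset.sum_congr rfl fun k _ => map_mul μ (v k) (f k)] at this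
    have h2 := hR (fun k => μ (v k)) h1 i'
    have h3 : Ideal.Quotient.mk Jb (μ (∑ k, v k * M₀ k i')) = 0 := by
      rw [map_sum, map_sum, ← h2]
      refine Finset.sum_congr rfl fun k _ => ?_
      rw [map_mul, map_mul, hM₀]
    rw [Ideal.Quotient.eq_zero_iff_mem] at h3
    have h4 : ∑ k, v k * M₀ k i' ∈ Jb.comap μ := h3
    rw [hcomap] at h4
    exact h4
  · intro i
    have h1 := hZ (Matrix.of fun i k => μ (M₀ i k)) (fun i k => hM₀ i k) i
    have h2 : μ (f i - ∑ k, M₀ i k * f k) ∈ (𝔞 ^ 2).map μ := by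
      rw [Ideal.map_pow, map_sub, map_sum]
      simp only [map_mul]
      exact h1
    have h3 : f i - ∑ k, M₀ i k * f k ∈ ((𝔞 ^ 2).map μ).comap μ := h2
    rw [Ideal.comap_map_of_surjective μ hμs, ← RingHom.ker_eq_comap_bot, hμ, Ideal.mk_ker] at h3
    exact (sup_le (sq_le_of_eq_sup KP 𝔞 J h𝔞) le_sup_right) h3

/-- the matrix is idempotent modulo `𝔞`. -/
theorem sq_sub_self_mem (𝔞 : Ideal P) (M₀ : Matrix (Fin m) (Fin m) P)
    (hR : ∀ v : Fin m → P, (∑ k, v k * f k) ∈ Ideal.span (Set.range f) ^ 2 ⊔ KP →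
        ∀ i', ∑ k, v k * M₀ k i' ∈ 𝔞)
    (hZ : ∀ i, f i - ∑ k, M₀ i k * f k ∈ Ideal.span (Set.range f) ^ 2 ⊔ KP) (i i' : Fin m) :
    (M₀ * M₀ - M₀) i i' ∈ 𝔞 := by
  classical
  have h1 : ∑ k, ((if k = i then 1 else 0) - M₀ i k) * f k = f i - ∑ k, M₀ i k * f k := by
    simp only [sub_mul, Finset.sum_sub_distrib, ite_mul, one_mul, zero_mul,
      Finset.sum_ite_eq', Finset.mem_univ, if_true]
  have h2 := hR (fun k => (if k = i then 1 else 0) - M₀ i k) (h1 ▸ hZ i) i'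
  have h3 : ∑ k, ((if k = i then 1 else 0) - M₀ i k) * M₀ k i' = -((M₀ * M₀ - M₀) i i') := by
    simp only [sub_mul, Finset.sum_sub_distrib, ite_mul, one_mul, zero_mul,
      Finset.sum_ite_eq', Finset.mem_univ, if_true, Matrix.sub_apply, Matrix.mul_apply]
    ring
  rw [h3] at h2
  exact (neg_mem_iff.mp h2)

end MatP

end Groth.Agent.H8.SyntLift
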