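import Mathlib
import Groth.Agent.Lib.Helper8.PairHens.IsoMod
import Groth.Agent.Lib.Helper8.SyntLift.A

/-! Syntomic lifting (helper8): transfer of the relation property to an étale neighbourhood,
and the linear algebra of the idempotent lift. -/

set_option autoImplicit false
set_option linter.unusedSectionVars false
set_option linter.unusedVariables false
universe u

namespace Groth.Agent.H8.SyntLift

open Groth.Agent.H8.PairHens

section Inj

variable {P : Type u} [CommRing P] {W : Type u} [CommRing W] [Algebra P W] [Module.Flat P W]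

/-- For a flat `P`-algebra `W` with `P/𝔞 ≅ W/𝔞W` and an ideal `𝔞² ≤ 𝔟 ≤ 𝔞`: the preimage of
`𝔟W` is `𝔟`. -/
theorem mem_of_map_mem (𝔞 𝔟 : Ideal P) (hiso : IsoMod 𝔞 W) (h1 : 𝔞 ^ 2 ≤ 𝔟) (h2 : 𝔟 ≤ 𝔞)
    (x : P) (hx : algebraMap P W x ∈ 𝔟.map (algebraMap P W)) : x ∈ 𝔟 := by
  classical
  set φ := algebraMap P W with hφ
  have hx𝔞 : x ∈ 𝔞 := by
    have h3 : φ x ∈ 𝔞.map φ := Ideal.map_mono h2 hx
    have h4 := (hiso.section_eq_zero_iff (φ x)).mpr h3
    rw [hφ, AlgHom.commutes] at h4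
    exact Ideal.Quotient.eq_zero_iff_mem.mp h4
  have hx' : φ x ∈ Ideal.span (φ '' (𝔟 : Set P)) := hx
  obtain ⟨n, c, g, hsum⟩ := Submodule.mem_span_set'.mp hx'
  have hg : ∀ i, ∃ b ∈ 𝔟, φ b = (g i : W) := fun i => (g i).2
  choose b hb𝔟 hbg using hg
  let f : Option (Fin n) → P := fun o => o.elim x b
  let xx : Option (Fin n) → W := fun o => o.elim 1 (fun i => - c i)
  have hrel : ∑ o, f o • xx o = 0 := by
    rw [Fintype.sum_option]
    simp only [f, xx, Option.elim]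
    rw [Algebra.smul_def, mul_one]
    have : ∑ i, b i • (- c i) = - ∑ i, c i • (g i : W) := by
      rw [← Finset.sum_neg_distrib]
      refine Finset.sum_congr rfl fun i _ => ?_
      rw [Algebra.smul_def, ← hφ, hbg i, smul_eq_mul]; ring
    rw [this, hsum, add_neg_cancel]
  obtain ⟨k, a, y, hxy, hfa⟩ := Module.Flat.isTrivialRelation_of_sum_smul_eq_zero (R := P) (M := W) (f := f) (x := xx) hrel
  have h1' : (1 : W) = ∑ j, a none j • y j := hxy none
  have hxa : ∀ j, x * a none j ∈ 𝔟 := by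
    intro j
    have h5 := hfa j
    rw [Fintype.sum_option] at h5
    simp only [f, Option.elim] at h5
    have h6 : x * a none j = - ∑ i, b i * a (some i) j := eq_neg_of_add_eq_zero_left h5
    rw [h6]
    exact neg_mem (Ideal.sum_mem _ fun i _ => Ideal.mul_mem_right _ _ (hb𝔟 i))
  have hz : ∀ j, ∃ z : P, Ideal.Quotient.mk 𝔞 z = hiso.section (y j) :=
    fun j => Ideal.Quotient.mk_surjective _
  choose z hz using hz
  have h6 : (1 : P) - ∑ j, a none j * z j ∈ 𝔞 := by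
    rw [← Ideal.Quotient.eq_zero_iff_mem, map_sub, map_one, map_sum, sub_eq_zero]
    have h7 := congrArg hiso.section h1'
    rw [map_one, map_sum] at h7
    rw [h7]
    refine Finset.sum_congr rfl fun j _ => ?_
    rw [map_smul, map_mul, hz j, Algebra.smul_def]
    rfl
  have h8 : ∑ j, (x * a none j) * z j = x * ∑ j, a none j * z j := by
    rw [Finset.mul_sum]
    exact Finset.sum_congr rfl fun j _ => mul_assoc _ _ _
  have h7 : x = x * (1 - ∑ j, a none j * z j) + ∑ j, (x * a none j) * z j := by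
    rw [h8]; ring
  rw [h7]
  refine add_mem (h1 ?_) (Ideal.sum_mem _ fun j _ => Ideal.mul_mem_right _ _ (hxa j))
  rw [pow_two]
  exact Ideal.mul_mem_mul hx𝔞 h6

/-- The relation property of the matrix `M₀` passes to `W`. -/
theorem wlevel_R (𝔞 : Ideal P) (hiso : IsoMod 𝔞 W) (KP : Ideal P) {m : ℕ} (f : Fin m → P)
    (h𝔞 : 𝔞 = Ideal.span (Set.range f) ⊔ KP)
    (M₀ : Matrix (Fin m) (Fin m) P)
    (hR : ∀ v : Fin m → P, (∑ k, v k * f k) ∈ Ideal.span (Set.range f) ^ 2 ⊔ KP →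
        ∀ i', ∑ k, v k * M₀ k i' ∈ 𝔞)
    (w : Fin m → W)
    (hw : ∑ k, w k * algebraMap P W (f k) ∈
      Ideal.span (Set.range fun k => algebraMap P W (f k)) ^ 2 ⊔ KP.map (algebraMap P W))
    (i' : Fin m) :
    ∑ k, w k * algebraMap P W (M₀ k i') ∈ 𝔞.map (algebraMap P W) := by
  classical
  set φ := algebraMap P W with hφ
  set J : Ideal P := Ideal.span (Set.range f) with hJ
  set 𝔟 : Ideal P := J ^ 2 ⊔ KP with h𝔟
  have h𝔟map : 𝔟.map φ = Ideal.span (Set.range fun k => φ (f k)) ^ 2 ⊔ KP.map φ := by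
    rw [h𝔟, Ideal.map_sup, Ideal.map_pow, hJ, Ideal.map_span, ← Set.range_comp]
    rfl
  have hJ𝔞 : J ≤ 𝔞 := h𝔞 ▸ le_sup_left
  have hKP𝔞 : KP ≤ 𝔞 := h𝔞 ▸ le_sup_right
  have h1 : 𝔞 ^ 2 ≤ 𝔟 := sq_le_of_eq_sup KP 𝔞 J h𝔞
  have h2 : 𝔟 ≤ 𝔞 := sup_le ((Ideal.pow_le_self two_ne_zero).trans hJ𝔞) hKP𝔞
  -- approximate `w` by elements of `P`
  have hv : ∀ k, ∃ v : P, w k - φ v ∈ 𝔞.map φ := by
    intro k
    obtain ⟨v, hv⟩ := Ideal.Quotient.mk_surjective (hiso.section (w k))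
    refine ⟨v, (hiso.section_eq_zero_iff _).mp ?_⟩
    rw [map_sub, hφ, AlgHom.commutes, ← hv, sub_eq_zero]
    rfl
  choose v hv using hv
  have hfJ : ∀ k, φ (f k) ∈ 𝔞.map φ := fun k =>
    Ideal.mem_map_of_mem φ (hJ𝔞 (Ideal.subset_span ⟨k, rfl⟩))
  have h3 : φ (∑ k, v k * f k) ∈ 𝔟.map φ := by
    have e : φ (∑ k, v k * f k) = ∑ k, w k * φ (f k) - ∑ k, (w k - φ (v k)) * φ (f k) := by
      rw [map_sum, ← Finset.sum_sub_distrib]
      refine Finset.sum_congr rfl fun k _ => ?_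
      rw [map_mul]; ring
    rw [e]
    refine sub_mem (h𝔟map ▸ hw) (Ideal.sum_mem _ fun k _ => ?_)
    have h4 : (w k - φ (v k)) * φ (f k) ∈ (𝔞.map φ) ^ 2 := by
      rw [pow_two]; exact Ideal.mul_mem_mul (hv k) (hfJ k)
    rw [← Ideal.map_pow] at h4
    exact Ideal.map_mono h1 h4
  have h4 := mem_of_map_mem 𝔞 𝔟 hiso h1 h2 _ h3
  have h5 := hR v h4 i'
  have e : ∑ k, w k * φ (M₀ k i') =
      φ (∑ k, v k * M₀ k i') + ∑ k, (w k - φ (v k)) * φ (M₀ k i') := by
    rw [map_sum, ← Finset.sum_add_distrib]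
    refine Finset.sum_congr rfl fun k _ => ?_
    rw [map_mul]; ring
  rw [e]
  exact add_mem (Ideal.mem_map_of_mem φ h5)
    (Ideal.sum_mem _ fun k _ => Ideal.mul_mem_right _ _ (hv k))

end Inj

section RK

variable {W : Type u} [CommRing W] {m : ℕ}

/-- A relation among the `g = E f'` with value in `KW` can be rewritten with coefficients in
`𝔄`. -/
theorem exists_sum_eq_of_sum_mem (𝔄 KW : Ideal W) (f' g : Fin m → W)
    (E M' : Matrix (Fin m) (Fin m) W)
    (hE : E * E = E) (hg : ∀ i, g i = ∑ l, E i l * f' l) (hEM : ∀ i k, E i k - M' i k ∈ 𝔄)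
    (hR : ∀ w : Fin m → W, ∑ k, w k * f' k ∈ Ideal.span (Set.range f') ^ 2 ⊔ KW →
      ∀ i', ∑ k, w k * M' k i' ∈ 𝔄)
    (v : Fin m → W) (hv : ∑ p, v p * g p ∈ KW) :
    ∃ v' : Fin m → W, (∀ q, v' q ∈ 𝔄) ∧ ∑ p, v p * g p = ∑ q, v' q * g q := by
  classical
  obtain ⟨v', hv'⟩ : ∃ v' : Fin m → W, ∀ q, v' q = ∑ p, v p * E p q := ⟨_, fun _ => rfl⟩
  have hEE : ∀ p q, E p q = ∑ l, E p l * E l q := fun p q => by
    rw [← Matrix.mul_apply, hE]
  have hswap : ∀ u : Fin m → W, ∑ q, v' q * u q = ∑ p, v p * ∑ q, E p q * u q := by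
    intro u
    simp only [hv', Finset.sum_mul, Finset.mul_sum]
    rw [Finset.sum_comm]
    refine Finset.sum_congr rfl fun p _ => Finset.sum_congr rfl fun q _ => ?_
    ring
  have hgg : ∀ p, ∑ q, E p q * g q = g p := by
    intro p
    simp only [hg, Finset.mul_sum]
    rw [Finset.sum_comm]
    simp only [← mul_assoc, ← Finset.sum_mul]
    exact Finset.sum_congr rfl fun l _ => by rw [← hEE]
  have h1 : ∑ q, v' q * f' q = ∑ p, v p * g p := by
    rw [hswap f']
    exact Finset.sum_congr rfl fun p _ => by rw [hg]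
  have h2 : ∑ q, v' q * g q = ∑ p, v p * g p := by
    rw [hswap g]
    exact Finset.sum_congr rfl fun p _ => by rw [hgg]
  refine ⟨v', fun i' => ?_, h2.symm⟩
  have h3 := hR v' (by rw [h1]; exact Ideal.mem_sup_right hv) i'
  have h4 : v' i' = ∑ q, v' q * E q i' := by
    rw [hswap fun q => E q i']
    rw [hv']
    exact Finset.sum_congr rfl fun p _ => by rw [← hEE]
  have h5 : v' i' = ∑ q, v' q * M' q i' + ∑ q, v' q * (E q i' - M' q i') := by
    rw [← Finset.sum_add_distrib]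
    conv_lhs => rw [h4]
    exact Finset.sum_congr rfl fun q _ => by ring
  rw [h5]
  exact add_mem h3 (Ideal.sum_mem _ fun q _ => Ideal.mul_mem_left _ _ (hEM q i'))

/-- determinant trick. -/
theorem det_mul_mem (U : Matrix (Fin m) (Fin m) W) (g : Fin m → W) (N : Ideal W)
    (h : ∀ i, ∑ q, U i q * g q ∈ N) (i : Fin m) : U.det * g i ∈ N := by
  classical
  have h1 : U.adjugate.mulVec (U.mulVec g) = U.det • g := by
    rw [Matrix.mulVec_mulVec, Matrix.adjugate_mul, Matrix.smul_mulVec, Matrix.one_mulVec]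
  have h2 := congrFun h1 i
  rw [Pi.smul_apply, smul_eq_mul] at h2
  rw [← h2]
  show ∑ p, U.adjugate i p * (U.mulVec g) p ∈ N
  exact Ideal.sum_mem _ fun p _ => Ideal.mul_mem_left _ _ (h p)

theorem det_notMem (U : Matrix (Fin m) (Fin m) W) (𝔄 Q : Ideal W) [Q.IsPrime] (h𝔄Q : 𝔄 ≤ Q)
    (s₀ : W) (hs₀ : s₀ ∉ Q) (hU : ∀ i q, U i q - (if i = q then s₀ else 0) ∈ 𝔄) :
    U.det ∉ Q := by
  classical
  intro hdet
  have h1 : U.det - s₀ ^ m ∈ 𝔄 := by
    rw [← Ideal.Quotient.eq_zero_iff_mem, map_sub, map_pow, sub_eq_zero, RingHom.map_det]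
    have : (Ideal.Quotient.mk 𝔄).mapMatrix U =
        Matrix.diagonal (fun _ => Ideal.Quotient.mk 𝔄 s₀) := by
      ext i q
      rw [RingHom.mapMatrix_apply, Matrix.map_apply, Matrix.diagonal_apply]
      have h := hU i q
      rw [← Ideal.Quotient.eq_zero_iff_mem, map_sub, sub_eq_zero] at h
      rw [h]
      split_ifs <;> simp
    rw [this, Matrix.det_diagonal, Finset.prod_const, Finset.card_univ, Fintype.card_fin]
  have h2 : s₀ ^ m ∈ Q := by
    have := Q.sub_mem hdet (h𝔄Q h1)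
    simpa using this
  exact hs₀ (Ideal.IsPrime.mem_of_pow_mem inferInstance m h2)

end RK

end Groth.Agent.H8.SyntLift
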