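import Mathlib
import Groth.Prelude
import Groth.Agent.Lib.Helper8.KosLoc.Fib
import Groth.Agent.Lib.Helper8.LCI.Fibre4
import Groth.Agent.Lib.Helper8.SmLift.IndSmoothNil

/-! Syntomic lifting (helper8): regularity in the fibre local ring, transfer of the elementwise
weak regularity condition along `W → W/IW`, flatness of the double quotient. -/

set_option autoImplicit false
set_option linter.unusedSectionVars false
set_option linter.unusedVariables false
set_option linter.style.haveILetI false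
universe u

namespace Groth.Agent.H8.SyntLift

open Groth.Agent.H8.LCI RingTheory.Sequence Groth.Agent.H1

section RegFibE

variable {A P : Type u} [CommRing A] [CommRing P] [Algebra A P]

/-- explicit form of `KosLoc.regFib_of_krLoc`: the given Koszul-regular generators stay regular
in the fibre local ring. -/
theorem isRegular_fib_of_kr [Algebra.FiniteType A P] [Module.Flat A P] (I : Ideal P)
    [Module.Flat A (P ⧸ I)] (𝔮 : Ideal P) [𝔮.IsPrime] (hI : I ≤ 𝔮)
    (L : List (Localization.AtPrime 𝔮))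
    (hL : _root_.LCI.IsKoszulRegularSeq (Localization.AtPrime 𝔮) L)
    (hIL : I.map (algebraMap P (Localization.AtPrime 𝔮)) = Ideal.ofList L) :
    IsRegular (Localization.AtPrime 𝔮 ⧸ pL (A := A) 𝔮)
      (L.map (algebraMap (Localization.AtPrime 𝔮)
        (Localization.AtPrime 𝔮 ⧸ pL (A := A) 𝔮))) := by
  set p := 𝔮.comap (algebraMap A P) with hp
  have hpo := Groth.Agent.H8.Rig.isPushout_quotient A (Localization.AtPrime 𝔮) p
  have hflatL : Module.Flat A (Localization.AtPrime 𝔮) :=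
    Module.Flat.trans A P (Localization.AtPrime 𝔮)
  have hflq : Module.Flat A (Localization.AtPrime 𝔮 ⧸ Ideal.ofList L) := by
    rw [← hIL]
    exact flat_quot_KL (A := A) I 𝔮
  have hKRfib := Groth.Agent.H8.KosBCh.isKoszulRegularSeq_map_of_isPushout A (A ⧸ p)
    (Localization.AtPrime 𝔮) (Localization.AtPrime 𝔮 ⧸ pL (A := A) 𝔮) L hL hflq
  have hne : pL (A := A) 𝔮 ≠ ⊤ := fun h =>
    (IsLocalRing.maximalIdeal.isMaximal _).ne_top
      (top_le_iff.mp (h ▸ pL_le_maximalIdeal (A := A) 𝔮))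
  have : Nontrivial (Localization.AtPrime 𝔮 ⧸ pL (A := A) 𝔮) :=
    Ideal.Quotient.nontrivial_iff.mpr hne
  have : IsLocalRing (Localization.AtPrime 𝔮 ⧸ pL (A := A) 𝔮) :=
    IsLocalRing.of_surjective' (Ideal.Quotient.mk (pL (A := A) 𝔮)) Ideal.Quotient.mk_surjective
  have : IsNoetherianRing (Localization.AtPrime 𝔮 ⧸ pL (A := A) 𝔮) :=
    Groth.Agent.H8.RegSec.isNoetherianRing_fibLoc (A := A) 𝔮
  have hgen : JR (A := A) I 𝔮 = Ideal.ofList (L.map (algebraMap (Localization.AtPrime 𝔮)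
      (Localization.AtPrime 𝔮 ⧸ pL (A := A) 𝔮))) := by
    rw [← Ideal.map_ofList, ← hIL]
    rfl
  refine Groth.Agent.H8.KosN.isRegular_of_isKoszulRegularSeq _ ?_ hKRfib
  intro x hx
  apply IsLocalRing.le_maximalIdeal (JR_ne_top (A := A) I 𝔮 hI)
  rw [hgen]
  exact Ideal.subset_span hx

end RegFibE

section Transfer

variable {R W Rb Wb : Type u} [CommRing R] [CommRing W] [Algebra R W] [CommRing Rb] [CommRing Wb]
  [Algebra Rb Wb]

/-- the elementwise weak-regularity condition passes from a quotient `Wb` of `W` over a quotient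
`Rb` of `R` to `W` over `R`, when the kernel of `W → Wb` is generated by the kernel of
`R → Rb`. -/
theorem wrcond_of_surjective (π : R →+* Rb) (hπ : Function.Surjective π) (μ : W →+* Wb)
    (hμs : Function.Surjective μ)
    (hcomm : ∀ r, algebraMap Rb Wb (π r) = μ (algebraMap R W r))
    (hker : RingHom.ker μ ≤ (RingHom.ker π).map (algebraMap R W))
    (Qb : Ideal Wb) [Qb.IsPrime] (ys : List W)
    (h : RegFib.WRcond Rb Wb Qb (ys.map μ)) :
    RegFib.WRcond R W (Qb.comap μ) ys := by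
  intro i hi m
  have hi' : i < (ys.map μ).length := by rw [List.length_map]; exact hi
  have h' := h i hi' (μ m)
  rw [smul_top_self] at h'
  rw [smul_top_self]
  obtain ⟨N, hN⟩ : ∃ N : Ideal W, N = ((Qb.comap μ).comap (algebraMap R W)).map (algebraMap R W) ⊔
    Ideal.ofList (ys.take i) := ⟨_, rfl⟩
  obtain ⟨Nb, hNb⟩ : ∃ Nb : Ideal Wb, Nb =
    (Qb.comap (algebraMap Rb Wb)).map (algebraMap Rb Wb) ⊔
      Ideal.ofList ((ys.map μ).take i) := ⟨_, rfl⟩
  rw [← hNb] at h'
  rw [← hN]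
  have hNmap : N.map μ ≤ Nb := by
    rw [hN, hNb, Ideal.map_sup, Ideal.map_map]
    refine sup_le_sup ?_ ?_
    · rw [Ideal.map_le_iff_le_comap]
      intro r hr
      rw [Ideal.mem_comap, RingHom.comp_apply, ← hcomm]
      refine Ideal.mem_map_of_mem _ ?_
      rw [Ideal.mem_comap, hcomm]
      exact hr
    · rw [Ideal.map_ofList, List.map_take]
  have hNcomap : Nb.comap μ ≤ N := by
    have h1 : Nb ≤ N.map μ := by
      rw [hN, hNb, Ideal.map_sup, Ideal.map_map]
      refine sup_le_sup ?_ ?_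
      · rw [Ideal.map_le_iff_le_comap]
        intro rb hrb
        obtain ⟨r, rfl⟩ := hπ rb
        rw [Ideal.mem_comap, hcomm]
        rw [Ideal.mem_comap, hcomm] at hrb
        exact Ideal.mem_map_of_mem (μ.comp (algebraMap R W)) (I := (Qb.comap μ).comap (algebraMap R W)) hrb
      · rw [Ideal.map_ofList, List.map_take]
    have h2 : RingHom.ker μ ≤ N := by
      refine hker.trans (le_trans ?_ (hN ▸ le_sup_left))
      apply Ideal.map_mono
      intro r hr
      rw [Ideal.mem_comap, Ideal.mem_comap, ← hcomm, (RingHom.mem_ker).mp hr, map_zero]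
      exact Qb.zero_mem
    calc Nb.comap μ ≤ (N.map μ).comap μ := Ideal.comap_mono h1
      _ = N ⊔ RingHom.ker μ := by
          rw [Ideal.comap_map_of_surjective μ hμs, RingHom.ker_eq_comap_bot]
      _ ≤ N := sup_le le_rfl h2
  rintro ⟨σ, hσ, hm⟩
  obtain ⟨τb, hτb, hτm⟩ := h' ⟨μ σ, hσ, by
    rw [List.getElem_map]
    have := hNmap (Ideal.mem_map_of_mem μ hm)
    simpa [smul_eq_mul, map_mul] using this⟩
  obtain ⟨τ, rfl⟩ := hμs τb
  refine ⟨τ, hτb, hNcomap ?_⟩
  rw [Ideal.mem_comap, smul_eq_mul, map_mul]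
  exact hτm

end Transfer

section Flat

variable {R : Type u} [CommRing R] (I : Ideal R)

theorem flat_of_linearEquiv_quotient {N N' : Type*} [AddCommGroup N] [AddCommGroup N']
    [Module R N] [Module (R ⧸ I) N] [IsScalarTower R (R ⧸ I) N]
    [Module R N'] [Module (R ⧸ I) N'] [IsScalarTower R (R ⧸ I) N']
    (e : N' ≃ₗ[R] N) [Module.Flat (R ⧸ I) N] : Module.Flat (R ⧸ I) N' := by
  let e' : N' ≃ₗ[R ⧸ I] N :=
    { e with
      map_smul' := fun r x => by
        obtain ⟨r, rfl⟩ := Ideal.Quotient.mk_surjective r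
        show e (Ideal.Quotient.mk I r • x) = Ideal.Quotient.mk I r • e x
        rw [← Ideal.Quotient.algebraMap_eq, algebraMap_smul, algebraMap_smul, map_smul] }
  exact Module.Flat.of_linearEquiv e'

theorem finitePresentation_quotient {W : Type u} [CommRing W] [Algebra R W]
    [Algebra.FinitePresentation R W] :
    Algebra.FinitePresentation (R ⧸ I) (W ⧸ I.map (algebraMap R W)) := by
  haveI : Algebra.FinitePresentation (R ⧸ I) (TensorProduct R (R ⧸ I) W) :=
    Algebra.FinitePresentation.baseChange (R := R) (A := W) (R ⧸ I)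
  exact Algebra.FinitePresentation.equiv
    (Algebra.TensorProduct.quotIdealMapEquivQuotTensor W I).symm

variable {W A₀ : Type u} [CommRing W] [CommRing A₀] [Algebra R W] [Algebra R A₀]
  [Algebra (R ⧸ I) A₀] [IsScalarTower R (R ⧸ I) A₀]

/-- flatness of `(W/IW)/𝔄` over `R/I` when `W/𝔄 ≅ A₀` is flat over `R/I`. -/
theorem flat_doubleQuot [Module.Flat (R ⧸ I) A₀] (ρ : W →ₐ[R] A₀) (hρ : Function.Surjective ρ)
    (𝔄 : Ideal W) (hker : ∀ x, ρ x = 0 ↔ x ∈ 𝔄) (hI𝔄 : I.map (algebraMap R W) ≤ 𝔄) :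
    Module.Flat (R ⧸ I) ((W ⧸ I.map (algebraMap R W)) ⧸
      𝔄.map (Ideal.Quotient.mk (I.map (algebraMap R W)))) := by
  set IW := I.map (algebraMap R W) with hIW
  let ρ₁ : (W ⧸ IW) →ₐ[R] A₀ := Ideal.Quotient.liftₐ IW ρ (fun x hx => (hker x).mpr (hI𝔄 hx))
  have hρ₁ : ∀ w, ρ₁ (Ideal.Quotient.mk IW w) = ρ w := fun w => rfl
  let ρ₂ : ((W ⧸ IW) ⧸ 𝔄.map (Ideal.Quotient.mk IW)) →ₐ[R] A₀ :=
    Ideal.Quotient.liftₐ _ ρ₁ (fun x hx => by
      obtain ⟨w, hw, rfl⟩ :=
        (Ideal.mem_map_iff_of_surjective _ Ideal.Quotient.mk_surjective).mp hx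
      rw [hρ₁]
      exact (hker w).mpr hw)
  have hρ₂ : ∀ w, ρ₂ (Ideal.Quotient.mk _ (Ideal.Quotient.mk IW w)) = ρ w := fun w => rfl
  have hbij : Function.Bijective ρ₂ := by
    constructor
    · rw [injective_iff_map_eq_zero]
      intro x hx
      obtain ⟨x, rfl⟩ := Ideal.Quotient.mk_surjective x
      obtain ⟨w, rfl⟩ := Ideal.Quotient.mk_surjective x
      rw [hρ₂] at hx
      exact Ideal.Quotient.eq_zero_iff_mem.mpr (Ideal.mem_map_of_mem _ ((hker w).mp hx))
    · intro y
      obtain ⟨w, rfl⟩ := hρ y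
      exact ⟨_, hρ₂ w⟩
  exact flat_of_linearEquiv_quotient I (LinearEquiv.ofBijective ρ₂.toLinearMap hbij)

end Flat

end Groth.Agent.H8.SyntLift
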