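import Mathlib
import Groth.Prelude
import Groth.Agent.Lib.Helper8.RGCI.Reg
import Groth.Agent.Lib.Helper8.Kos.LCIQuot
import Groth.Agent.Lib.Helper8.LCI.KRCot
import Groth.Agent.Lib.Helper8.Synt.Main9151
import Groth.Agent.Lib.Helper1.FibInj7
import Groth.Agent.Lib.Helper1.LimFlat4
import Groth.Agent.S15821

/-! Syntomic lifting (helper8): from the elementwise weak-regularity condition at a prime to a
syntomic basic open neighbourhood of the quotient. -/

set_option autoImplicit false
set_option linter.unusedSectionVars false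
set_option linter.unusedVariables false
set_option linter.style.haveILetI false
universe u

namespace Groth.Agent.H8.SyntLift

open Groth.Agent.H8.LCI RingTheory.Sequence Groth.Agent.H1

section flat
variable {A P : Type u} [CommRing A] [CommRing P] [Algebra A P]

/-- flatness of the localized module `(P/J)_M` gives flatness of the ring `S / J S`. -/
theorem flat_quot_map_of_flat_localizedModule' (M : Submonoid P) (S : Type u) [CommRing S]
    [Algebra P S] [Algebra A S] [IsScalarTower A P S] [IsLocalization M S] (J : Ideal P)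
    [Module.Flat A (LocalizedModule M (P ⧸ (J • ⊤ : Submodule P P)))] :
    Module.Flat A (S ⧸ J.map (algebraMap P S)) := by
  haveI h1 : IsLocalizedModule M (IsScalarTower.toAlgHom P (P ⧸ J)
      (S ⧸ J.map (algebraMap P S))).toLinearMap :=
    isLocalizedModule_iff_isLocalization.mpr inferInstance
  let e : (P ⧸ (J • ⊤ : Submodule P P)) ≃ₗ[P] (P ⧸ J) :=
    Submodule.quotEquivOfEq _ _ (smul_top_self J)
  haveI h2 : IsLocalizedModule M ((IsScalarTower.toAlgHom P (P ⧸ J)
      (S ⧸ J.map (algebraMap P S))).toLinearMap ∘ₗ e.toLinearMap) :=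
    IsLocalizedModule.of_linearEquiv_right _ _ e
  exact Groth.Agent.H1.FlatLocus.flat_of_isLocalizedModule_of_le (R := A) (B := P)
    (X := P ⧸ (J • ⊤ : Submodule P P))
    (X' := LocalizedModule M (P ⧸ (J • ⊤ : Submodule P P)))
    M (LocalizedModule.mkLinearMap M _) M le_rfl
    ((IsScalarTower.toAlgHom P (P ⧸ J) (S ⧸ J.map (algebraMap P S))).toLinearMap ∘ₗ
      e.toLinearMap)

end flat

variable {A P : Type u} [CommRing A] [CommRing P] [Algebra A P] [Algebra.Smooth A P]

/-- If `ys ⊆ K` generates `K` near the prime `𝔮` and satisfies the elementwise weak-regularity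
condition at `𝔮`, then `P/K` is syntomic over `A` on a basic open neighbourhood of `𝔮`. -/
theorem exists_syntomic_nhd (𝔮 : Ideal P) [𝔮.IsPrime] (ys : List P) (K : Ideal P)
    (hysK : Ideal.ofList ys ≤ K) (t₃ : P) (ht₃ : t₃ ∉ 𝔮)
    (hK : ∀ x ∈ K, t₃ * x ∈ Ideal.ofList ys)
    (hwr : RegFib.WRcond A P 𝔮 ys) :
    ∃ t : P, t ∉ 𝔮 ∧ ∀ s : P,
      Synt.IsSyntomic A (Localization.Away (Ideal.Quotient.mk K (t * s))) := by
  haveI : Algebra.FinitePresentation A P := inferInstance
  haveI : Module.Flat A P := inferInstance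
  obtain ⟨t₁, ht₁, Ht₁⟩ := exists_pow_mul_mem (A := A) 𝔮 ys hwr
  have hflat0 : Module.Flat A (LocalizedModule 𝔮.primeCompl P) :=
    LimFlat.flat_localizedModule_of_flat (R := A) (B := P) (M := P) 𝔮.primeCompl
  have hE := (RegFib.wrcond_iff 𝔮 ys hflat0).mp hwr
  have hflatAll : ∀ i ≤ ys.length, Module.Flat A (LocalizedModule 𝔮.primeCompl
      (P ⧸ (Ideal.ofList (ys.take i) • ⊤ : Submodule P P))) := by
    intro i
    induction i with
    | zero => exact fun _ => RegFib.flat_zero 𝔮 ys hflat0
    | succ i ih =>
      intro hi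
      exact RegFib.flat_succ_of_econd 𝔮 ys i hi (hE i hi)
  haveI hflat𝔮 : Module.Flat A (LocalizedModule 𝔮.primeCompl
      (P ⧸ (Ideal.ofList ys • ⊤ : Submodule P P))) := by
    have := hflatAll ys.length le_rfl
    rwa [List.take_length] at this
  haveI : Module.FinitePresentation P (P ⧸ (Ideal.ofList ys • ⊤ : Submodule P P)) :=
    RegFib.finitePresentation_quot_smul_top P (Ideal.ofList ys) (RegFib.fg_ofList ys)
  obtain ⟨t₂, ht₂, Ht₂⟩ := LimFlat.exists_flat_nhd_of_finitePresentation (R := A) (S := P)
    (M := P ⧸ (Ideal.ofList ys • ⊤ : Submodule P P)) 𝔮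
  refine ⟨t₁ * (t₂ * t₃), ?_, fun s => ?_⟩
  · exact 𝔮.primeCompl.mul_mem ht₁ (𝔮.primeCompl.mul_mem ht₂ ht₃)
  obtain ⟨t, ht⟩ : ∃ t : P, t = t₁ * (t₂ * t₃) * s := ⟨_, rfl⟩
  rw [← ht]
  haveI : Algebra.Smooth A (Localization.Away t) := Algebra.Smooth.comp A P (Localization.Away t)
  -- Koszul regularity
  have hwrC : IsWeaklyRegular (Localization.Away t)
      (ys.map (algebraMap P (Localization.Away t))) := by
    refine isWeaklyRegular_away t ys fun i hi m hm => ?_
    obtain ⟨k, hk⟩ := Ht₁ i hi m hm (t₂ * t₃ * s)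
    refine ⟨k, ?_⟩
    have : t = t₁ * (t₂ * t₃ * s) := by rw [ht]; ring
    rw [this]
    exact hk
  have hKRC := (Groth.Agent.S15821.result (Localization.Away t) _ hwrC).1
  have hunit : IsUnit (algebraMap P (Localization.Away t) t₃) := by
    have h1 : IsUnit (algebraMap P (Localization.Away t) t) :=
      IsLocalization.Away.algebraMap_isUnit t
    have h2 : t = t₃ * (t₁ * t₂ * s) := by rw [ht]; ring
    have h3 : algebraMap P (Localization.Away t) t = algebraMap P (Localization.Away t) t₃ *
        algebraMap P (Localization.Away t) (t₁ * t₂ * s) := by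
      rw [← map_mul, ← h2]
    rw [h3] at h1
    exact isUnit_of_mul_isUnit_left h1
  have hEq : K.map (algebraMap P (Localization.Away t)) =
      (Ideal.ofList ys).map (algebraMap P (Localization.Away t)) := by
    refine le_antisymm ?_ (Ideal.map_mono hysK)
    rw [Ideal.map_le_iff_le_comap]
    intro x hx
    rw [Ideal.mem_comap]
    have h1 := Ideal.mem_map_of_mem (algebraMap P (Localization.Away t)) (hK x hx)
    rw [map_mul, Ideal.unit_mul_mem_iff_mem _ hunit] at h1
    exact h1
  -- flatness
  haveI hflatC : Module.Flat A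
      (Localization.Away t ⧸ K.map (algebraMap P (Localization.Away t))) := by
    rw [hEq]
    haveI : Module.Flat A (LocalizedModule (Submonoid.powers t)
        (P ⧸ (Ideal.ofList ys • ⊤ : Submodule P P))) := by
      refine FibInj.flat_away_of_forall_flat_prime t fun q' _ hq' => Ht₂ q' ?_
      intro h2
      apply hq'
      have : t = t₂ * (t₁ * t₃ * s) := by rw [ht]; ring
      rw [this]
      exact Ideal.mul_mem_right _ _ h2
    exact flat_quot_map_of_flat_localizedModule' (Submonoid.powers t) (Localization.Away t)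
      (Ideal.ofList ys)
  -- syntomic
  have hsynt : Synt.IsSyntomic A
      (Localization.Away t ⧸ K.map (algebraMap P (Localization.Away t))) :=
    Groth.Agent.H8.KosConcat.isSyntomic_quot_of_smooth A (Localization.Away t) _
      Ideal.Quotient.mk_surjective (ys.map (algebraMap P (Localization.Away t))) hKRC (by
        rw [Ideal.Quotient.algebraMap_eq, Ideal.mk_ker, hEq, Ideal.map_ofList])
  haveI := isLocalization_away_quot K t (Ideal.Quotient.mk K t) rfl
  haveI : IsScalarTower A (P ⧸ K)
      (Localization.Away t ⧸ K.map (algebraMap P (Localization.Away t))) :=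
    IsScalarTower.of_algebraMap_eq fun a => by
      show Ideal.Quotient.mk _ (algebraMap A (Localization.Away t) a) =
        Ideal.Quotient.mk _ (algebraMap P (Localization.Away t) (algebraMap A P a))
      rw [← IsScalarTower.algebraMap_apply]
  let e : (Localization.Away t ⧸ K.map (algebraMap P (Localization.Away t))) ≃ₐ[P ⧸ K]
      Localization.Away (Ideal.Quotient.mk K t) :=
    IsLocalization.algEquiv (Submonoid.powers (Ideal.Quotient.mk K t)) _ _
  exact Groth.Agent.H8.Synt.isSyntomic_of_algEquiv (e.restrictScalars A) hsynt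

end Groth.Agent.H8.SyntLift
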