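import Mathlib
import Groth.Prelude
import Groth.Agent.Lib.Helper8.SyntLift.B
import Groth.Agent.Lib.Helper8.SyntLift.C
import Groth.Agent.Lib.Helper8.SyntLift.D
import Groth.Agent.Lib.Helper8.KosDesc.Loc
import Groth.Agent.Lib.Helper8.KosDesc.Loc2
import Groth.Agent.Lib.Helper8.Kos.Indep
import Groth.Agent.Lib.Helper8.SmLift.Mat
import Groth.Agent.Lib.Helper8.SmLift.Quot
import Groth.Agent.Lib.Helper8.CI.LCILocal

/-! Syntomic lifting (helper8): the local analysis at a prime of the étale neighbourhood and the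
assembly of the lift. -/

set_option autoImplicit false
set_option linter.unusedSectionVars false
set_option linter.unusedVariables false
set_option linter.style.haveILetI false
universe u

namespace Groth.Agent.H8.SyntLift

open Groth.Agent.H8.LCI RingTheory.Sequence Groth.Agent.H1

theorem ofList_ofFn {S : Type*} [CommRing S] {n : ℕ} (v : Fin n → S) :
    Ideal.ofList (List.ofFn v) = Ideal.span (Set.range v) := by
  show Ideal.span {x | x ∈ List.ofFn v} = _
  congr 1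
  ext x
  simp [List.mem_ofFn]

section Local

variable {R W : Type u} [CommRing R] [CommRing W] [Algebra R W] [Algebra.Smooth R W] (I : Ideal R)
  {A₀ : Type u} [CommRing A₀] [Algebra R A₀] [Algebra (R ⧸ I) A₀] [IsScalarTower R (R ⧸ I) A₀]
  [Module.Flat (R ⧸ I) A₀]

local notation "IW" => Ideal.map (algebraMap R W) I
local notation "Wb" => W ⧸ Ideal.map (algebraMap R W) I
local notation "μW" => Ideal.Quotient.mk (Ideal.map (algebraMap R W) I)

set_option maxHeartbeats 1600000 in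
/-- local analysis at a prime `Qb ⊇ 𝔄/IW` of `W/IW`. -/
theorem exists_local_data (ρ : W →ₐ[R] A₀) (hρ : Function.Surjective ρ) (𝔄 : Ideal W)
    (hker : ∀ x, ρ x = 0 ↔ x ∈ 𝔄) {m : ℕ} (f' g : Fin m → W) (E M' : Matrix (Fin m) (Fin m) W)
    (h𝔄 : 𝔄 = Ideal.span (Set.range f') ⊔ IW)
    (hE : E * E = E) (hg : ∀ i, g i = ∑ l, E i l * f' l) (hEM : ∀ i k, E i k - M' i k ∈ 𝔄)
    (hR : ∀ w : Fin m → W, ∑ k, w k * f' k ∈ Ideal.span (Set.range f') ^ 2 ⊔ IW →
      ∀ i', ∑ k, w k * M' k i' ∈ 𝔄)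
    (r₁ : W) (hr₁ : r₁ - 1 ∈ 𝔄)
    (hr₁J : ∀ j ∈ Ideal.span (Set.range f'), r₁ * j ∈ Ideal.span (Set.range g) ⊔ IW)
    (hKR : _root_.LCI.IsKoszulRegularIdeal (𝔄.map μW))
    (Qb : Ideal Wb) [Qb.IsPrime] (hQb : 𝔄.map μW ≤ Qb) :
    ∃ (c : ℕ) (k : Fin c → Fin m) (t₃ : W),
      t₃ ∉ Qb.comap μW ∧
      (∀ i, t₃ * g i ∈ Ideal.span (Set.range (g ∘ k))) ∧
      RegFib.WRcond R W (Qb.comap μW) (List.ofFn (g ∘ k)) := by
  classical
  have hIW𝔄 : IW ≤ 𝔄 := h𝔄 ▸ le_sup_right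
  have hJ𝔄 : Ideal.span (Set.range f') ≤ 𝔄 := h𝔄 ▸ le_sup_left
  have hg𝔄 : ∀ i, g i ∈ 𝔄 := fun i => by
    rw [hg]
    exact Ideal.sum_mem _ fun l _ => Ideal.mul_mem_left _ _ (hJ𝔄 (Ideal.subset_span ⟨l, rfl⟩))
  have hμs : Function.Surjective μW := Ideal.Quotient.mk_surjective
  have h𝔄Q : 𝔄 ≤ Qb.comap μW := fun x hx => hQb (Ideal.mem_map_of_mem _ hx)
  -- chart
  obtain ⟨gb, hgb, l, hl, hgen⟩ := hKR ⟨Qb, inferInstance⟩ hQb
  obtain ⟨L, -, hL, hIL⟩ :=
    Groth.Agent.H8.KosDesc.exists_atPrime_of_away Qb gb hgb l hl (𝔄.map μW) hgen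
  obtain ⟨ι, hι⟩ : ∃ ι : Wb →+* Localization.AtPrime Qb,
    ι = algebraMap Wb (Localization.AtPrime Qb) := ⟨_, rfl⟩
  obtain ⟨y, hy⟩ : ∃ y : Fin m → Localization.AtPrime Qb, ∀ i, y i = ι (μW (g i)) :=
    ⟨_, fun _ => rfl⟩
  have hr₁u : IsUnit (ι (μW r₁)) := by
    rw [hι]
    refine IsLocalization.map_units (Localization.AtPrime Qb) (⟨μW r₁, ?_⟩ : Qb.primeCompl)
    intro h1
    have h2 : μW r₁ - 1 ∈ Qb := by
      rw [← map_one μW, ← map_sub]
      exact hQb (Ideal.mem_map_of_mem _ hr₁)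
    have h3 : (1 : Wb) ∈ Qb := by
      have := Qb.sub_mem h1 h2
      simpa using this
    exact (inferInstance : Qb.IsPrime).ne_top ((Ideal.eq_top_iff_one _).mpr h3)
  have hyspan : Ideal.span (Set.range y) = Ideal.ofList L := by
    rw [← hIL]
    apply le_antisymm
    · rw [Ideal.span_le]
      rintro _ ⟨i, rfl⟩
      rw [hy, hι]
      exact Ideal.mem_map_of_mem _ (Ideal.mem_map_of_mem _ (hg𝔄 i))
    · rw [Ideal.map_le_iff_le_comap, Ideal.map_le_iff_le_comap]
      intro x hx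
      rw [Ideal.mem_comap, Ideal.mem_comap]
      rw [h𝔄] at hx
      obtain ⟨j, hj, w, hw, rfl⟩ := Submodule.mem_sup.mp hx
      have hw0 : μW w = 0 := Ideal.Quotient.eq_zero_iff_mem.mpr hw
      rw [map_add, hw0, add_zero]
      obtain ⟨a, ha, b, hb, hab⟩ := Submodule.mem_sup.mp (hr₁J j hj)
      have hb0 : μW b = 0 := Ideal.Quotient.eq_zero_iff_mem.mpr hb
      have h1 : μW r₁ * μW j = μW a := by
        rw [← map_mul, ← hab, map_add, hb0, add_zero]
      have h2 : ι (μW a) ∈ Ideal.span (Set.range y) := by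
        have h3 : a ∈ (Ideal.span (Set.range y)).comap (ι.comp μW) := by
          refine (Ideal.span_le.mpr ?_) ha
          rintro _ ⟨i, rfl⟩
          show ι (μW (g i)) ∈ Ideal.span (Set.range y)
          rw [← hy]
          exact Ideal.subset_span ⟨i, rfl⟩
        exact h3
      rw [← h1, map_mul, Ideal.unit_mul_mem_iff_mem _ hr₁u] at h2
      rw [← hι]
      exact h2
  have hLm : Ideal.ofList L ≤ IsLocalRing.maximalIdeal (Localization.AtPrime Qb) := by
    rw [← hIL, ← Localization.AtPrime.map_eq_maximalIdeal]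
    exact Ideal.map_mono hQb
  obtain ⟨k, hkinj, hk⟩ := Groth.Agent.H8.KosDesc.exists_selection_list L hL hLm y hyspan
  refine ⟨L.length, k, ?_⟩
  -- Koszul regularity and the fibre
  have hKRD : _root_.LCI.IsKoszulRegularSeq (Localization.AtPrime Qb) (List.ofFn (y ∘ k)) :=
    Groth.Agent.H8.KosIndep.isKoszulRegularSeq_of_ofList_eq L _ (by simp)
      (by rw [ofList_ofFn, hk]) hL
  haveI : Algebra.FinitePresentation (R ⧸ I) Wb := finitePresentation_quotient I
  haveI : Module.Flat (R ⧸ I) Wb := Groth.Agent.H8.SmLift.flat_quotient I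
  haveI : Module.Flat (R ⧸ I) (Wb ⧸ 𝔄.map μW) := flat_doubleQuot I ρ hρ 𝔄 hker hIW𝔄
  have hreg := isRegular_fib_of_kr (A := R ⧸ I) (𝔄.map μW) Qb hQb (List.ofFn (y ∘ k)) hKRD
    (by rw [hIL, ofList_ofFn, hk])
  have hwrb : RegFib.WRcond (R ⧸ I) Wb Qb ((List.ofFn (g ∘ k)).map μW) := by
    refine wrcond_of_isWeaklyRegular (A := R ⧸ I) Qb _ ?_
    have h1 := hreg.toIsWeaklyRegular
    have h2 : ((List.ofFn (g ∘ k)).map μW).map (algebraMap Wb
        (Localization.AtPrime Qb ⧸ pL (A := R ⧸ I) Qb)) =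
        (List.ofFn (y ∘ k)).map (algebraMap (Localization.AtPrime Qb)
          (Localization.AtPrime Qb ⧸ pL (A := R ⧸ I) Qb)) := by
      rw [List.map_map, List.map_ofFn, List.map_ofFn]
      congr 1
      funext j
      simp only [Function.comp_apply, hy, hι]
      rfl
    rw [h2]
    exact h1
  have hwr : RegFib.WRcond R W (Qb.comap μW) (List.ofFn (g ∘ k)) :=
    wrcond_of_surjective (Ideal.Quotient.mk I) Ideal.Quotient.mk_surjective μW hμs
      (fun r => rfl) (by rw [Ideal.mk_ker, Ideal.mk_ker]) Qb _ hwrb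
  -- relations
  have hrel : ∀ i, ∃ cc : Fin L.length → Localization.AtPrime Qb,
      ∑ j, cc j * y (k j) = y i := by
    intro i
    have h1 : y i ∈ Ideal.span (Set.range (y ∘ k)) := by
      rw [hk, ← hyspan]
      exact Ideal.subset_span ⟨i, rfl⟩
    obtain ⟨cc, hcc⟩ := Ideal.mem_span_range_iff_exists_fun.mp h1
    exact ⟨cc, hcc⟩
  choose cc hcc using hrel
  obtain ⟨b, hb⟩ := IsLocalization.exist_integer_multiples Qb.primeCompl
    (Finset.univ : Finset (Fin m × Fin L.length)) (fun p => cc p.1 p.2)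
  have hb' : ∀ i j, ∃ a : Wb, algebraMap Wb (Localization.AtPrime Qb) a = (b : Wb) • cc i j :=
    fun i j => hb (i, j) (Finset.mem_univ _)
  choose ab hab using hb'
  have hab' : ∀ i j, ι (ab i j) = ι (b : Wb) * cc i j := by
    intro i j
    rw [hι, hab, Algebra.smul_def]
  have hzero : ∀ i, ι ((b : Wb) * μW (g i) - ∑ j, ab i j * μW (g (k j))) = 0 := by
    intro i
    rw [map_sub, map_mul, map_sum, sub_eq_zero, ← hy, ← hcc i, Finset.mul_sum]
    refine Finset.sum_congr rfl fun j _ => ?_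
    rw [map_mul, hab', ← hy]
    ring
  have hex : ∀ i, ∃ b' : Qb.primeCompl,
      (b' : Wb) * ((b : Wb) * μW (g i) - ∑ j, ab i j * μW (g (k j))) = 0 := by
    intro i
    have h1 := hzero i
    rw [hι] at h1
    exact (IsLocalization.map_eq_zero_iff Qb.primeCompl (Localization.AtPrime Qb) _).mp h1
  choose b' hb'z using hex
  obtain ⟨bb, hbb⟩ : ∃ bb : Wb, bb = ∏ i, (b' i : Wb) := ⟨_, rfl⟩
  have hbbQ : bb ∈ Qb.primeCompl := by
    rw [hbb]
    exact Submonoid.prod_mem _ fun i _ => (b' i).2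
  have hbbz : ∀ i, bb * ((b : Wb) * μW (g i) - ∑ j, ab i j * μW (g (k j))) = 0 := by
    intro i
    have h1 : bb = (∏ i' ∈ Finset.univ.erase i, (b' i' : Wb)) * (b' i : Wb) := by
      rw [hbb, mul_comm]
      exact (Finset.mul_prod_erase _ _ (Finset.mem_univ i)).symm
    rw [h1, mul_assoc, hb'z i, mul_zero]
  obtain ⟨s₀, hs₀⟩ := hμs (bb * b)
  have hlift : ∀ i j, ∃ a : W, μW a = bb * ab i j := fun i j => hμs _
  choose a ha using hlift
  have hs₀Q : s₀ ∉ Qb.comap μW := by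
    rw [Ideal.mem_comap, hs₀]
    exact Qb.primeCompl.mul_mem hbbQ b.2
  have hS1 : ∀ i, s₀ * g i - ∑ j, a i j * g (k j) ∈ IW := by
    intro i
    rw [← Ideal.Quotient.eq_zero_iff_mem, map_sub, map_mul, map_sum, hs₀]
    simp only [map_mul, ha]
    rw [← hbbz i, mul_sub, Finset.mul_sum]
    congr 1
    · ring
    · exact Finset.sum_congr rfl fun j _ => by ring
  have hv : ∀ i, ∃ v' : Fin m → W, (∀ q, v' q ∈ 𝔄) ∧
      s₀ * g i - ∑ j, a i j * g (k j) = ∑ q, v' q * g q := by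
    intro i
    obtain ⟨v, hvdef⟩ : ∃ v : Fin m → W, ∀ p, v p =
        (if p = i then s₀ else 0) - ∑ j, (if p = k j then a i j else 0) := ⟨_, fun _ => rfl⟩
    have hsum : ∑ p, v p * g p = s₀ * g i - ∑ j, a i j * g (k j) := by
      simp only [hvdef, sub_mul, Finset.sum_sub_distrib, ite_mul, zero_mul,
        Finset.sum_ite_eq', Finset.mem_univ, if_true, Finset.sum_mul]
      congr 1
      rw [Finset.sum_comm]
      refine Finset.sum_congr rfl fun j _ => ?_
      simp [Finset.sum_ite_eq']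
    obtain ⟨v', hv'𝔄, hv'⟩ :=
      exists_sum_eq_of_sum_mem 𝔄 IW f' g E M' hE hg hEM hR v (hsum ▸ hS1 i)
    exact ⟨v', hv'𝔄, hsum ▸ hv'⟩
  choose v' hv'𝔄 hv' using hv
  obtain ⟨U, hU⟩ : ∃ U : Matrix (Fin m) (Fin m) W, ∀ i q, U i q =
      (if i = q then s₀ else 0) - v' i q := ⟨Matrix.of fun i q => _, fun _ _ => rfl⟩
  have hUg : ∀ i, ∑ q, U i q * g q ∈ Ideal.span (Set.range (g ∘ k)) := by
    intro i
    have h1 : ∑ q, U i q * g q = ∑ j, a i j * g (k j) := by
      simp only [hU, sub_mul, Finset.sum_sub_distrib, ite_mul, zero_mul,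
        Finset.sum_ite_eq, Finset.mem_univ, if_true]
      rw [← hv' i]
      ring
    rw [h1]
    exact Ideal.sum_mem _ fun j _ => Ideal.mul_mem_left _ _ (Ideal.subset_span ⟨j, rfl⟩)
  refine ⟨U.det, det_notMem U 𝔄 (Qb.comap μW) h𝔄Q s₀ hs₀Q (fun i q => ?_),
    det_mul_mem U g _ hUg, hwr⟩
  rw [hU, sub_sub_cancel_left]
  exact neg_mem (hv'𝔄 i q)

end Local

end Groth.Agent.H8.SyntLift
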