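import Mathlib
import Groth.Prelude
import Groth.Agent.Lib.Helper8.SyntLift.E
import Groth.Agent.Lib.Helper8.PairHens.ProjDescent
import Groth.Agent.Lib.Helper8.LCIHom.KRMap
import Groth.Agent.Lib.Helper8.LCI.KRCot
import Groth.Agent.Lib.Helper8.Kos.KRIdeal
import Groth.Agent.Lib.Helper8.Synt.Local1

/-! Syntomic lifting (helper8): assembly. -/

set_option autoImplicit false
set_option linter.unusedSectionVars false
set_option linter.unusedVariables false
set_option linter.style.haveILetI false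
universe u

namespace Groth.Agent.H8.SyntLift

open Groth.Agent.H8.LCI RingTheory.Sequence Groth.Agent.H1 Groth.Agent.H8.PairHens

section W

variable {R W : Type u} [CommRing R] [CommRing W] [Algebra R W] [Algebra.Smooth R W] (I : Ideal R)
  {A₀ : Type u} [CommRing A₀] [Algebra R A₀] [Algebra (R ⧸ I) A₀] [IsScalarTower R (R ⧸ I) A₀]
  [Module.Flat (R ⧸ I) A₀]

set_option maxHeartbeats 1600000 in
/-- the lift, given the data on the étale neighbourhood `W`. -/
theorem exists_syntomic_lift_of_data (IW : Ideal W) (hIW : IW = I.map (algebraMap R W))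
    (ρ : W →ₐ[R] A₀) (hρ : Function.Surjective ρ) (𝔄 : Ideal W)
    (hker : ∀ x, ρ x = 0 ↔ x ∈ 𝔄) {m : ℕ} (f' g : Fin m → W) (E M' : Matrix (Fin m) (Fin m) W)
    (h𝔄 : 𝔄 = Ideal.span (Set.range f') ⊔ IW)
    (hE : E * E = E) (hg : ∀ i, g i = ∑ l, E i l * f' l) (hEM : ∀ i k, E i k - M' i k ∈ 𝔄)
    (hR : ∀ w : Fin m → W, ∑ k, w k * f' k ∈ Ideal.span (Set.range f') ^ 2 ⊔ IW →
      ∀ i', ∑ k, w k * M' k i' ∈ 𝔄)
    (hZ : ∀ i, f' i - ∑ k, M' i k * f' k ∈ Ideal.span (Set.range f') ^ 2 ⊔ IW)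
    (hKR : _root_.LCI.IsKoszulRegularIdeal (𝔄.map (Ideal.Quotient.mk IW))) :
    ∃ (A : Type u) (_ : CommRing A) (_ : Algebra R A), Synt.IsSyntomic R A ∧
      Nonempty ((A ⧸ I.map (algebraMap R A)) ≃ₐ[R ⧸ I] A₀) := by
  subst hIW
  classical
  have hIW𝔄 : I.map (algebraMap R W) ≤ 𝔄 := h𝔄 ▸ le_sup_right
  have hJ𝔄 : Ideal.span (Set.range f') ≤ 𝔄 := h𝔄 ▸ le_sup_left
  have hg𝔄 : ∀ i, g i ∈ 𝔄 := fun i => by
    rw [hg]
    exact Ideal.sum_mem _ fun l _ => Ideal.mul_mem_left _ _ (hJ𝔄 (Ideal.subset_span ⟨l, rfl⟩))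
  obtain ⟨K, hK⟩ : ∃ K : Ideal W, K = Ideal.span (Set.range g) := ⟨_, rfl⟩
  have hK𝔄 : K ≤ 𝔄 := by
    rw [hK, Ideal.span_le]
    rintro _ ⟨i, rfl⟩
    exact hg𝔄 i
  have hμs : Function.Surjective (Ideal.Quotient.mk (I.map (algebraMap R W))) :=
    Ideal.Quotient.mk_surjective
  obtain ⟨r₁, hr₁, hr₁J⟩ := Groth.Agent.H8.SmLift.exists_mul_mem 𝔄
    (Ideal.span (Set.range f')) (I.map (algebraMap R W)) f' g rfl hJ𝔄 E M' hg hEM hZ
  -- local statement
  have hloc : ∀ Q' : Ideal W, Q'.IsPrime → 𝔄 ≤ Q' → ∃ t : W, t ∉ Q' ∧ ∀ s : W,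
      Synt.IsSyntomic R (Localization.Away (Ideal.Quotient.mk K (t * s))) := by
    intro Q' hQ'prime h𝔄Q'
    have hIWQ' : I.map (algebraMap R W) ≤ Q' := hIW𝔄.trans h𝔄Q'
    haveI : (Q'.map (Ideal.Quotient.mk (I.map (algebraMap R W)))).IsPrime :=
      Ideal.map_isPrime_of_surjective hμs (by rw [Ideal.mk_ker]; exact hIWQ')
    have hcomap : (Q'.map (Ideal.Quotient.mk (I.map (algebraMap R W)))).comap
        (Ideal.Quotient.mk (I.map (algebraMap R W))) = Q' := by
      rw [Ideal.comap_map_of_surjective _ hμs, ← RingHom.ker_eq_comap_bot, Ideal.mk_ker]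
      exact sup_eq_left.mpr hIWQ'
    obtain ⟨c, k, t₃, ht₃, hKt₃, hwr⟩ := exists_local_data I ρ hρ 𝔄 hker f' g E M' h𝔄 hE hg hEM
      hR r₁ hr₁ hr₁J hKR (Q'.map (Ideal.Quotient.mk (I.map (algebraMap R W))))
      (Ideal.map_mono h𝔄Q')
    obtain ⟨t, ht, Ht⟩ := exists_syntomic_nhd (A := R)
      ((Q'.map (Ideal.Quotient.mk (I.map (algebraMap R W)))).comap
        (Ideal.Quotient.mk (I.map (algebraMap R W)))) (List.ofFn (g ∘ k)) K
      (by
        rw [ofList_ofFn, hK]
        exact Ideal.span_mono (Set.range_comp_subset_range k g)) t₃ ht₃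
      (fun x hx => by
        rw [ofList_ofFn]
        rw [hK] at hx
        refine Submodule.span_induction
          (p := fun x _ => t₃ * x ∈ Ideal.span (Set.range (g ∘ k))) ?_ ?_ ?_ ?_ hx
        · rintro _ ⟨i, rfl⟩
          exact hKt₃ i
        · rw [mul_zero]
          exact Ideal.zero_mem _
        · intro a b _ _ ha hb
          rw [mul_add]
          exact add_mem ha hb
        · intro c a _ ha
          rw [smul_eq_mul, mul_left_comm]
          exact Ideal.mul_mem_left _ _ ha)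
      hwr
    rw [hcomap] at ht
    exact ⟨t, ht, Ht⟩
  -- covering
  obtain ⟨𝒯, h𝒯⟩ : ∃ 𝒯 : Set W, 𝒯 = {t | ∀ s : W,
      Synt.IsSyntomic R (Localization.Away (Ideal.Quotient.mk K (t * s)))} := ⟨_, rfl⟩
  have h𝒯mem : ∀ t ∈ 𝒯, ∀ s : W,
      Synt.IsSyntomic R (Localization.Away (Ideal.Quotient.mk K (t * s))) := by
    intro t ht
    rw [h𝒯] at ht
    exact ht
  have hcover : Ideal.span 𝒯 ⊔ 𝔄 = ⊤ := by
    by_contra hne
    obtain ⟨Q', hQ'max, hle⟩ := Ideal.exists_le_maximal _ hne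
    haveI := hQ'max.isPrime
    obtain ⟨t, ht, Ht⟩ := hloc Q' inferInstance (le_sup_right.trans hle)
    refine ht (hle (Ideal.mem_sup_left (Ideal.subset_span ?_)))
    rw [h𝒯]
    exact Ht
  obtain ⟨τ, hτ, α, hα, hτα⟩ := Submodule.mem_sup.mp ((Ideal.eq_top_iff_one _).mp hcover)
  obtain ⟨n, a, tt, hsum⟩ := Submodule.mem_span_set'.mp hτ
  obtain ⟨h, hh⟩ : ∃ h : W, h = τ * r₁ := ⟨_, rfl⟩
  have hh1 : h - 1 ∈ 𝔄 := by
    have e1 : h - 1 = (τ - 1) * r₁ + (r₁ - 1) := by rw [hh]; ring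
    rw [e1]
    refine add_mem (Ideal.mul_mem_right _ _ ?_) hr₁
    have e2 : τ - 1 = -α := by rw [← hτα]; ring
    rw [e2]
    exact neg_mem hα
  -- the algebra
  obtain ⟨hb, hhb⟩ : ∃ hb : W ⧸ K, hb = Ideal.Quotient.mk K h := ⟨_, rfl⟩
  have hunits : IsUnit (algebraMap (W ⧸ K) (Localization.Away hb) (Ideal.Quotient.mk K τ)) ∧
      IsUnit (algebraMap (W ⧸ K) (Localization.Away hb) (Ideal.Quotient.mk K r₁)) := by
    have h1 : IsUnit (algebraMap (W ⧸ K) (Localization.Away hb) hb) :=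
      IsLocalization.Away.algebraMap_isUnit hb
    have h2 : algebraMap (W ⧸ K) (Localization.Away hb) hb =
        algebraMap (W ⧸ K) (Localization.Away hb) (Ideal.Quotient.mk K τ) *
          algebraMap (W ⧸ K) (Localization.Away hb) (Ideal.Quotient.mk K r₁) := by
      rw [← map_mul, ← map_mul, ← hh, hhb]
    rw [h2] at h1
    exact ⟨isUnit_of_mul_isUnit_left h1, isUnit_of_mul_isUnit_right h1⟩
  have hsynt : Synt.IsSyntomic R (Localization.Away hb) := by
    refine Groth.Agent.H8.LCILocal.isSyntomic_of_span R (Localization.Away hb)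
      (Finset.univ.image (fun i : Fin n =>
        algebraMap (W ⧸ K) (Localization.Away hb) (Ideal.Quotient.mk K (tt i : W)))) ?_ ?_
    · have hmem : algebraMap (W ⧸ K) (Localization.Away hb) (Ideal.Quotient.mk K τ) ∈
          Ideal.span ((Finset.univ.image (fun i : Fin n =>
            algebraMap (W ⧸ K) (Localization.Away hb) (Ideal.Quotient.mk K (tt i : W))) :
              Finset (Localization.Away hb)) : Set (Localization.Away hb)) := by
        rw [← hsum, map_sum, map_sum]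
        refine Ideal.sum_mem _ fun i _ => ?_
        rw [smul_eq_mul, map_mul, map_mul]
        refine Ideal.mul_mem_left _ _ (Ideal.subset_span ?_)
        exact Finset.mem_coe.mpr (Finset.mem_image.mpr ⟨i, Finset.mem_univ _, rfl⟩)
      exact Ideal.eq_top_of_isUnit_mem _ hmem hunits.1
    · intro x hx
      obtain ⟨i, -, rfl⟩ := Finset.mem_image.mp hx
      haveI : IsLocalization.Away (hb * Ideal.Quotient.mk K (tt i : W))
          (Localization.Away (algebraMap (W ⧸ K) (Localization.Away hb)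
            (Ideal.Quotient.mk K (tt i : W)))) :=
        IsLocalization.Away.mul' (Localization.Away hb) _ hb (Ideal.Quotient.mk K (tt i : W))
      have h1 : Synt.IsSyntomic R (Localization.Away (Ideal.Quotient.mk K ((tt i : W) * h))) :=
        h𝒯mem _ (tt i).2 h
      have h2 : Ideal.Quotient.mk K ((tt i : W) * h) = hb * Ideal.Quotient.mk K (tt i : W) := by
        rw [map_mul, mul_comm, hhb]
      rw [h2] at h1
      let e : Localization.Away (hb * Ideal.Quotient.mk K (tt i : W)) ≃ₐ[W ⧸ K]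
          Localization.Away (algebraMap (W ⧸ K) (Localization.Away hb)
            (Ideal.Quotient.mk K (tt i : W))) :=
        IsLocalization.algEquiv (Submonoid.powers (hb * Ideal.Quotient.mk K (tt i : W))) _ _
      exact Groth.Agent.H8.Synt.isSyntomic_of_algEquiv (e.restrictScalars R) h1
  -- the map to `A₀`
  let ρ' : (W ⧸ K) →ₐ[R] A₀ := Ideal.Quotient.liftₐ K ρ (fun x hx => (hker x).mpr (hK𝔄 hx))
  have hρ'mk : ∀ w, ρ' (Ideal.Quotient.mk K w) = ρ w := fun w => rfl
  have hρh : ρ h = 1 := by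
    have h1 : ρ (h - 1) = 0 := (hker _).mpr hh1
    rwa [map_sub, map_one, sub_eq_zero] at h1
  let ρS : Localization.Away hb →ₐ[R] A₀ :=
    IsLocalization.liftAlgHom (M := Submonoid.powers hb) (f := ρ') (by
      rintro ⟨_, n, rfl⟩
      show IsUnit (ρ' (hb ^ n))
      rw [map_pow, hhb, hρ'mk, hρh, one_pow]
      exact isUnit_one)
  have hρS : ∀ x : W ⧸ K, ρS (algebraMap (W ⧸ K) (Localization.Away hb) x) = ρ' x := fun x =>
    IsLocalization.lift_eq _ x
  have hsurj : Function.Surjective ρS := by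
    intro y
    obtain ⟨w, rfl⟩ := hρ y
    exact ⟨algebraMap (W ⧸ K) (Localization.Away hb) (Ideal.Quotient.mk K w), by
      rw [hρS, hρ'mk]⟩
  have hkerS : ∀ x, ρS x = 0 → x ∈ I.map (algebraMap R (Localization.Away hb)) := by
    intro x hx
    obtain ⟨a', s, rfl⟩ := IsLocalization.exists_mk'_eq (Submonoid.powers hb) x
    have h1 : ρ' a' = 0 := by
      have h2 := congrArg ρS (IsLocalization.mk'_spec (Localization.Away hb) a' s)
      rw [map_mul, hx, zero_mul, hρS] at h2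
      exact h2.symm
    obtain ⟨w, rfl⟩ := Ideal.Quotient.mk_surjective a'
    rw [hρ'mk] at h1
    have hw𝔄 : w ∈ 𝔄 := (hker w).mp h1
    have h3 : r₁ * w ∈ K ⊔ I.map (algebraMap R W) := by
      rw [h𝔄] at hw𝔄
      obtain ⟨j, hj, ι', hι', rfl⟩ := Submodule.mem_sup.mp hw𝔄
      rw [mul_add]
      exact add_mem (hK ▸ hr₁J j hj) (Ideal.mem_sup_right (Ideal.mul_mem_left _ _ hι'))
    have h4 : Ideal.Quotient.mk K (r₁ * w) ∈ I.map (algebraMap R (W ⧸ K)) := by
      obtain ⟨a, ha, b, hb', hab⟩ := Submodule.mem_sup.mp h3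
      rw [← hab, map_add, Ideal.Quotient.eq_zero_iff_mem.mpr ha, zero_add]
      have h5 := Ideal.mem_map_of_mem (Ideal.Quotient.mk K) hb'
      rw [Ideal.map_map] at h5
      exact h5
    have h5 : algebraMap (W ⧸ K) (Localization.Away hb) (Ideal.Quotient.mk K r₁) *
        algebraMap (W ⧸ K) (Localization.Away hb) (Ideal.Quotient.mk K w) ∈
        I.map (algebraMap R (Localization.Away hb)) := by
      rw [← map_mul, ← map_mul]
      have h6 := Ideal.mem_map_of_mem (algebraMap (W ⧸ K) (Localization.Away hb)) h4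
      rw [Ideal.map_map, ← IsScalarTower.algebraMap_eq] at h6
      exact h6
    rw [Ideal.unit_mul_mem_iff_mem _ hunits.2] at h5
    rw [IsLocalization.mk'_eq_mul_mk'_one]
    exact Ideal.mul_mem_right _ _ h5
  exact ⟨Localization.Away hb, inferInstance, inferInstance, hsynt,
    Groth.Agent.H8.SmLift.nonempty_algEquiv_quotient I ρS hsurj hkerS⟩

end W

end Groth.Agent.H8.SyntLift
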