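import Mathlib
import Groth.Prelude
import Groth.Agent.Lib.Helper8.SyntLift.F
import Groth.Agent.Lib.Helper8.KosDesc.FG
import Groth.Agent.Lib.Helper8.Synt.Main9287

/-! Syntomic lifting (helper8): the presentation-level theorem and the main theorem. -/

set_option autoImplicit false
set_option linter.unusedSectionVars false
set_option linter.unusedVariables false
set_option linter.style.haveILetI false
universe u

namespace Groth.Agent.H8.SyntLift

open Groth.Agent.H8.LCI RingTheory.Sequence Groth.Agent.H1 Groth.Agent.H8.PairHens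

section Transport

variable {P Pb : Type u} [CommRing P] [CommRing Pb]

/-- transport of a Koszul-regular ideal of a quotient `Pb` of `P` to the concrete quotient
`P ⧸ ker`. -/
theorem isKoszulRegularIdeal_map_mk (μr : P →+* Pb) (hμr : Function.Surjective μr) (IP : Ideal P)
    (hkerμ : RingHom.ker μr = IP) (𝔟 : Ideal Pb) (hKR : _root_.LCI.IsKoszulRegularIdeal 𝔟)
    (𝔞 : Ideal P) (h𝔞 : 𝔞 = 𝔟.comap μr) :
    _root_.LCI.IsKoszulRegularIdeal (𝔞.map (Ideal.Quotient.mk IP)) := by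
  subst hkerμ
  let e : (P ⧸ RingHom.ker μr) ≃+* Pb := RingHom.quotientKerEquivOfSurjective hμr
  have he : ∀ x, e (Ideal.Quotient.mk _ x) = μr x := fun x => rfl
  have h1 := Groth.Agent.H8.KosIndep.isKoszulRegularIdeal_map_ringEquiv e.symm 𝔟 hKR
  have h2 : 𝔟.map (e.symm : Pb →+* P ⧸ RingHom.ker μr) =
      𝔞.map (Ideal.Quotient.mk (RingHom.ker μr)) := by
    apply le_antisymm
    · rw [Ideal.map_le_iff_le_comap]
      intro z hz
      obtain ⟨x, rfl⟩ := hμr z
      rw [Ideal.mem_comap]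
      have h3 : (e.symm : Pb →+* P ⧸ RingHom.ker μr) (μr x) = Ideal.Quotient.mk _ x := by
        show e.symm (μr x) = _
        rw [RingEquiv.symm_apply_eq, he]
      rw [h3]
      refine Ideal.mem_map_of_mem _ ?_
      rw [h𝔞]
      exact hz
    · rw [Ideal.map_le_iff_le_comap]
      intro x hx
      rw [Ideal.mem_comap]
      have h3 : Ideal.Quotient.mk (RingHom.ker μr) x =
          (e.symm : Pb →+* P ⧸ RingHom.ker μr) (μr x) := by
        show _ = e.symm (μr x)
        rw [eq_comm, RingEquiv.symm_apply_eq, he]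
      rw [h3]
      refine Ideal.mem_map_of_mem _ ?_
      rw [h𝔞] at hx
      exact hx
  rw [h2] at h1
  exact h1

end Transport

section Core

variable {R : Type u} [CommRing R] (I : Ideal R)
  {A₀ : Type u} [CommRing A₀] [Algebra R A₀] [Algebra (R ⧸ I) A₀] [IsScalarTower R (R ⧸ I) A₀]
  [Module.Flat (R ⧸ I) A₀]

set_option maxHeartbeats 1600000 in
/-- lifting from a presentation by a smooth algebra. -/
theorem exists_syntomic_lift_of_presentation (P : Type u) [CommRing P] [Algebra R P]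
    [Algebra.Smooth R P] (σ₀ : P →ₐ[R] A₀) (hσ₀ : Function.Surjective σ₀) {m : ℕ} (f : Fin m → P)
    (𝔞 : Ideal P) (hker₀ : ∀ x, σ₀ x = 0 ↔ x ∈ 𝔞)
    (h𝔞 : 𝔞 = Ideal.span (Set.range f) ⊔ I.map (algebraMap R P))
    (hKR : _root_.LCI.IsKoszulRegularIdeal
      (𝔞.map (Ideal.Quotient.mk (I.map (algebraMap R P))))) :
    ∃ (A : Type u) (_ : CommRing A) (_ : Algebra R A), Synt.IsSyntomic R A ∧
      Nonempty ((A ⧸ I.map (algebraMap R A)) ≃ₐ[R ⧸ I] A₀) := by
  classical
  haveI : Module.Projective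
      ((P ⧸ I.map (algebraMap R P)) ⧸ 𝔞.map (Ideal.Quotient.mk (I.map (algebraMap R P))))
      (𝔞.map (Ideal.Quotient.mk (I.map (algebraMap R P)))).Cotangent :=
    projective_cotangent_of_isKoszulRegularIdeal hKR
  obtain ⟨M₀, hR, hZ⟩ := exists_matrix_lift (I.map (algebraMap R P)) f 𝔞 h𝔞
  have hidem := sq_sub_self_mem (I.map (algebraMap R P)) f 𝔞 M₀ hR hZ
  obtain ⟨Mb, hMbdef⟩ : ∃ Mb : Matrix (Fin m) (Fin m) (P ⧸ 𝔞),
      Mb = M₀.map (Ideal.Quotient.mk 𝔞) := ⟨_, rfl⟩
  have hMb : IsIdempotentElem Mb := by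
    show Mb * Mb = Mb
    have h1 : Mb * Mb = (M₀ * M₀).map (Ideal.Quotient.mk 𝔞) := by
      rw [hMbdef]
      exact (Matrix.map_mul (f := Ideal.Quotient.mk 𝔞)).symm
    rw [h1, hMbdef]
    ext i k
    rw [Matrix.map_apply, Matrix.map_apply, ← sub_eq_zero, ← map_sub,
      Ideal.Quotient.eq_zero_iff_mem]
    exact hidem i k
  obtain ⟨W, _, _, _, hiso, E, hEidem, hEMb⟩ := exists_etale_idempotent_matrix 𝔞 Mb hMb
  letI : Algebra R W := ((algebraMap P W).comp (algebraMap R P)).toAlgebra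
  haveI : IsScalarTower R P W := IsScalarTower.of_algebraMap_eq (fun _ => rfl)
  haveI : Algebra.Smooth R W := Algebra.Smooth.comp R P W
  haveI : Module.Flat P W := inferInstance
  obtain ⟨φ, hφ⟩ : ∃ φ : P →+* W, φ = algebraMap P W := ⟨_, rfl⟩
  obtain ⟨f', hf'⟩ : ∃ f' : Fin m → W, ∀ i, f' i = φ (f i) := ⟨_, fun _ => rfl⟩
  obtain ⟨M', hM'⟩ : ∃ M' : Matrix (Fin m) (Fin m) W, ∀ i k, M' i k = φ (M₀ i k) :=
    ⟨Matrix.of fun i k => φ (M₀ i k), fun _ _ => rfl⟩
  obtain ⟨g, hg⟩ : ∃ g : Fin m → W, ∀ i, g i = ∑ l, E i l * f' l := ⟨_, fun _ => rfl⟩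
  have hf'range : (Set.range fun k => φ (f k)) = Set.range f' := by
    congr 1
    funext k
    exact (hf' k).symm
  have hIWeq : (I.map (algebraMap R P)).map φ = I.map (algebraMap R W) := by
    rw [Ideal.map_map, hφ]
    rfl
  have h𝔄 : 𝔞.map φ = Ideal.span (Set.range f') ⊔ (I.map (algebraMap R P)).map φ := by
    rw [h𝔞, Ideal.map_sup, Ideal.map_span, ← Set.range_comp, ← hf'range]
    rfl
  have hEM : ∀ i k, E i k - M' i k ∈ 𝔞.map φ := by
    intro i k
    have h1 := congrFun (congrFun hEMb i) k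
    rw [Matrix.map_apply, Matrix.map_apply, hMbdef, Matrix.map_apply] at h1
    rw [hM', hφ, ← Ideal.Quotient.eq]
    exact h1
  have hZ' : ∀ i, f' i - ∑ k, M' i k * f' k ∈
      Ideal.span (Set.range f') ^ 2 ⊔ (I.map (algebraMap R P)).map φ := by
    intro i
    have h1 := Ideal.mem_map_of_mem φ (hZ i)
    rw [Ideal.map_sup, Ideal.map_pow, Ideal.map_span, ← Set.range_comp, map_sub, map_sum] at h1
    simp only [map_mul] at h1
    rw [← hf'range]
    simp only [hf', hM']
    exact h1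
  have hR' : ∀ w : Fin m → W, ∑ k, w k * f' k ∈
      Ideal.span (Set.range f') ^ 2 ⊔ (I.map (algebraMap R P)).map φ →
      ∀ i', ∑ k, w k * M' k i' ∈ 𝔞.map φ := by
    intro w hw i'
    have h1 := wlevel_R 𝔞 hiso (I.map (algebraMap R P)) f h𝔞 M₀ hR w
      (by
        rw [← hφ, hf'range]
        simp only [← hf']
        exact hw) i'
    simp only [hM', hφ]
    exact h1
  -- the map to `A₀`
  let ρ₀ : (P ⧸ 𝔞) →ₐ[R] A₀ := Ideal.Quotient.liftₐ 𝔞 σ₀ (fun x hx => (hker₀ x).mpr hx)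
  have hρ₀mk : ∀ p, ρ₀ (Ideal.Quotient.mk 𝔞 p) = σ₀ p := fun p => rfl
  have hρ₀inj : ∀ z, ρ₀ z = 0 → z = 0 := by
    intro z hz
    obtain ⟨p, rfl⟩ := Ideal.Quotient.mk_surjective z
    rw [hρ₀mk] at hz
    exact Ideal.Quotient.eq_zero_iff_mem.mpr ((hker₀ p).mp hz)
  let ρ : W →ₐ[R] A₀ := ρ₀.comp (hiso.section.restrictScalars R)
  have hρapp : ∀ x, ρ x = ρ₀ (hiso.section x) := fun x => rfl
  have hρ : Function.Surjective ρ := by
    intro y
    obtain ⟨p, rfl⟩ := hσ₀ y
    refine ⟨algebraMap P W p, ?_⟩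
    rw [hρapp, AlgHom.commutes]
    rfl
  have hkerρ : ∀ x, ρ x = 0 ↔ x ∈ 𝔞.map φ := by
    intro x
    rw [hρapp, hφ, ← hiso.section_eq_zero_iff]
    constructor
    · exact hρ₀inj _
    · intro h
      rw [h, map_zero]
  -- Koszul regularity on `W`
  subst hφ
  have hKRW : _root_.LCI.IsKoszulRegularIdeal
      ((𝔞.map (algebraMap P W)).map
        (Ideal.Quotient.mk ((I.map (algebraMap R P)).map (algebraMap P W)))) := by
    haveI : Module.Flat (P ⧸ I.map (algebraMap R P))
        (W ⧸ (I.map (algebraMap R P)).map (algebraMap P W)) :=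
      Groth.Agent.H8.SmLift.flat_quotient (I.map (algebraMap R P))
    have h1 := Groth.Agent.H8.LCIHom.isKoszulRegularIdeal_map_of_flat
      (B := W ⧸ (I.map (algebraMap R P)).map (algebraMap P W)) _ hKR
    have h2 : (𝔞.map (Ideal.Quotient.mk (I.map (algebraMap R P)))).map
        (algebraMap (P ⧸ I.map (algebraMap R P))
          (W ⧸ (I.map (algebraMap R P)).map (algebraMap P W))) =
        (𝔞.map (algebraMap P W)).map
          (Ideal.Quotient.mk ((I.map (algebraMap R P)).map (algebraMap P W))) := by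
      rw [Ideal.map_map (Ideal.Quotient.mk (I.map (algebraMap R P)))
        (algebraMap (P ⧸ I.map (algebraMap R P))
          (W ⧸ (I.map (algebraMap R P)).map (algebraMap P W))),
        Ideal.map_map (algebraMap P W)
          (Ideal.Quotient.mk ((I.map (algebraMap R P)).map (algebraMap P W)))]
      congr 1
    rw [h2] at h1
    exact h1
  exact exists_syntomic_lift_of_data I ((I.map (algebraMap R P)).map (algebraMap P W)) hIWeq ρ hρ
    (𝔞.map (algebraMap P W)) hkerρ f' g E M' h𝔄 hEidem hg hEM hR' hZ' hKRW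

end Core

end Groth.Agent.H8.SyntLift
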