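import Mathlib
import Groth.Prelude
import Groth.Agent.Lib.Helper8.SyntLift.G

/-! Syntomic lifting (helper8): the main theorem. -/

set_option autoImplicit false
set_option linter.unusedSectionVars false
set_option linter.unusedVariables false
set_option linter.style.haveILetI false
universe u

namespace Groth.Agent.H8.SyntLift

set_option maxHeartbeats 1600000 in
/-- **Lifting syntomic algebras along `R → R/I`.** -/
theorem main6826 {R A₀ : Type u} [CommRing R] (I : Ideal R) [CommRing A₀] [Algebra (R ⧸ I) A₀]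
    (h : Synt.IsSyntomic (R ⧸ I) A₀) :
    ∃ (A : Type u) (_ : CommRing A) (_ : Algebra R A), Synt.IsSyntomic R A ∧
      Nonempty ((A ⧸ I.map (algebraMap R A)) ≃ₐ[R ⧸ I] A₀) := by
  classical
  obtain ⟨hflat, hlci⟩ := (Groth.Agent.H8.Synt.isSyntomic_iff (R ⧸ I) A₀).mp h
  obtain ⟨-, n, πb, hπb, hKRb⟩ := hlci
  haveI := hflat
  have hfgb : (RingHom.ker πb.toRingHom).FG :=
    Groth.Agent.H8.KosDesc.fg_of_isKoszulRegularIdeal _ hKRb
  obtain ⟨m, fb, hfb⟩ := Submodule.fg_iff_exists_fin_generating_family.mp hfgb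
  have hfb' : Ideal.span (Set.range fb) =
      RingHom.ker (πb : MvPolynomial (Fin n) (R ⧸ I) →+* A₀) := hfb
  letI : Algebra R A₀ := ((algebraMap (R ⧸ I) A₀).comp (Ideal.Quotient.mk I)).toAlgebra
  haveI : IsScalarTower R (R ⧸ I) A₀ := IsScalarTower.of_algebraMap_eq (fun _ => rfl)
  let μr : MvPolynomial (Fin n) R →+* MvPolynomial (Fin n) (R ⧸ I) :=
    MvPolynomial.map (Ideal.Quotient.mk I)
  have hμr : Function.Surjective μr :=
    MvPolynomial.map_surjective (Ideal.Quotient.mk I) Ideal.Quotient.mk_surjective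
  let μ : MvPolynomial (Fin n) R →ₐ[R] MvPolynomial (Fin n) (R ⧸ I) :=
    { μr with
      commutes' := fun r => by
        show μr (algebraMap R _ r) = algebraMap R _ r
        rw [MvPolynomial.algebraMap_apply, MvPolynomial.algebraMap_apply]
        simp [μr] }
  have hμapp : ∀ p, μ p = μr p := fun _ => rfl
  have hμ : Function.Surjective μ := hμr
  have hkerμ : RingHom.ker μr = I.map (algebraMap R (MvPolynomial (Fin n) R)) := by
    rw [MvPolynomial.ker_map, Ideal.mk_ker]
    rfl
  choose f hf using fun j => hμ (fb j)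
  let σ₀ : MvPolynomial (Fin n) R →ₐ[R] A₀ := (πb.restrictScalars R).comp μ
  have hσ₀ : Function.Surjective σ₀ := hπb.comp hμ
  have hσ₀app : ∀ p, σ₀ p = πb (μ p) := fun _ => rfl
  have hfbker : ∀ j, πb (fb j) = 0 := by
    intro j
    have : fb j ∈ RingHom.ker (πb : MvPolynomial (Fin n) (R ⧸ I) →+* A₀) := by
      rw [← hfb']; exact Ideal.subset_span ⟨j, rfl⟩
    exact this
  have hσ₀J : ∀ a ∈ Ideal.span (Set.range f), σ₀ a = 0 := by
    intro a ha
    refine Submodule.span_induction (p := fun a _ => σ₀ a = 0) ?_ ?_ ?_ ?_ ha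
    · rintro _ ⟨j, rfl⟩
      rw [hσ₀app, hf j, hfbker]
    · exact map_zero _
    · intro a b _ _ ha hb; rw [map_add, ha, hb, add_zero]
    · intro c a _ ha; rw [smul_eq_mul, map_mul, ha, mul_zero]
  have hspan : Ideal.span (Set.range fb) = (Ideal.span (Set.range f)).map μr := by
    rw [Ideal.map_span, ← Set.range_comp]
    congr 2
    funext j
    exact (hf j).symm
  have hker : ∀ p, σ₀ p = 0 →
      p ∈ Ideal.span (Set.range f) ⊔ I.map (algebraMap R (MvPolynomial (Fin n) R)) := by
    intro p hp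
    have h1 : μ p ∈ RingHom.ker (πb : MvPolynomial (Fin n) (R ⧸ I) →+* A₀) := hp
    rw [← hfb', hspan] at h1
    obtain ⟨q, hq, hq'⟩ := (Ideal.mem_map_iff_of_surjective μr hμr).mp h1
    have hq3 : μ q = μ p := hq'
    have : p = q + (p - q) := by ring
    rw [this]
    refine add_mem (Ideal.mem_sup_left hq) (Ideal.mem_sup_right ?_)
    rw [← hkerμ, RingHom.mem_ker]
    show μ (p - q) = 0
    rw [map_sub, hq3, sub_self]
  have h𝔞 : RingHom.ker (σ₀ : MvPolynomial (Fin n) R →+* A₀) =
      Ideal.span (Set.range f) ⊔ I.map (algebraMap R (MvPolynomial (Fin n) R)) := by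
    apply le_antisymm
    · intro p hp
      exact hker p hp
    · refine sup_le (fun a ha => hσ₀J a ha) ?_
      rw [← hkerμ]
      intro p hp
      show σ₀ p = 0
      have : μ p = 0 := hp
      rw [hσ₀app, this, map_zero]
  have hcomap : RingHom.ker (σ₀ : MvPolynomial (Fin n) R →+* A₀) =
      (RingHom.ker πb.toRingHom).comap μr := by
    ext x
    rfl
  haveI : Algebra.Smooth R (MvPolynomial (Fin n) R) := ⟨inferInstance, inferInstance⟩
  have hKR := isKoszulRegularIdeal_map_mk μr hμr _ hkerμ (RingHom.ker πb.toRingHom) hKRb _ hcomap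
  exact exists_syntomic_lift_of_presentation I (MvPolynomial (Fin n) R) σ₀ hσ₀ f
    (RingHom.ker (σ₀ : MvPolynomial (Fin n) R →+* A₀)) (fun x => Iff.rfl) h𝔞 hKR

end Groth.Agent.H8.SyntLift
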